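import Mathlib
import Groth.Prelude.Def_CohPull
import Groth.Agent.Lead.Coh.H0

/-!
helper71: the inverse image of the free abelian sheaf on an open `W` is the free abelian sheaf on the
preimage of `W`; morphisms out of it are sections over the preimage.
-/

set_option autoImplicit false
universe u
open CategoryTheory Limits TopologicalSpace Opposite

namespace Groth.Agent.H71.CohBC

open Groth.Agent.Lead.Coh

noncomputable section

variable {X Y : TopCat.{u}} (f : X ⟶ Y)

/-- the free abelian sheaf on an open of a topological space -/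
abbrev ZZ (Y : TopCat.{u}) (W : Opens Y) : CohTop.Ab Y := freeSheaf (Opens.grothendieckTopology Y) W

/-- morphisms from `f⁻¹ ℤ_W` are sections over `f⁻¹ W` -/
def homEquivPull (W : Opens Y) (G : CohTop.Ab X) :
    ((CohPull.inv f).obj (ZZ Y W) ⟶ G) ≃ G.obj.obj (op ((Opens.map f).obj W)) :=
  ((CohPull.invPushAdj f).homEquiv _ _).trans (homEquivSections W ((CohTop.push f).obj G))

theorem homEquivPull_naturality_right (W : Opens Y) {G G' : CohTop.Ab X} (φ : G ⟶ G')
    (k : (CohPull.inv f).obj (ZZ Y W) ⟶ G) :
    homEquivPull f W G' (k ≫ φ) = φ.hom.app (op ((Opens.map f).obj W)) (homEquivPull f W G k) := by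
  simp only [homEquivPull, Equiv.trans_apply]
  rw [Adjunction.homEquiv_naturality_right]
  exact homEquivSections_naturality_right W ((CohTop.push f).map φ) _

theorem homEquivPull_add (W : Opens Y) (G : CohTop.Ab X)
    (k k' : (CohPull.inv f).obj (ZZ Y W) ⟶ G) :
    homEquivPull f W G (k + k') = homEquivPull f W G k + homEquivPull f W G k' := by
  simp only [homEquivPull, Equiv.trans_apply]
  have h : (CohPull.invPushAdj f).homEquiv (ZZ Y W) G (k + k') =
      (CohPull.invPushAdj f).homEquiv (ZZ Y W) G k + (CohPull.invPushAdj f).homEquiv (ZZ Y W) G k' :=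
    ((CohPull.invPushAdj f).homAddEquiv (ZZ Y W) G).map_add k k'
  rw [h]
  exact homEquivSections_add W ((CohTop.push f).obj G) _ _

/-- `f⁻¹ ℤ_W ≅ ℤ_{f⁻¹ W}` -/
def pullFreeIso (W : Opens Y) :
    (CohPull.inv f).obj (ZZ Y W) ≅ ZZ X ((Opens.map f).obj W) where
  hom := (homEquivPull f W _).symm (homEquivSections ((Opens.map f).obj W) _ (𝟙 _))
  inv := (homEquivSections ((Opens.map f).obj W) _).symm (homEquivPull f W _ (𝟙 _))
  hom_inv_id := by
    apply (homEquivPull f W _).injective
    rw [homEquivPull_naturality_right, Equiv.apply_symm_apply,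
      ← homEquivSections_naturality_right, Category.id_comp, Equiv.apply_symm_apply]
  inv_hom_id := by
    apply (homEquivSections ((Opens.map f).obj W) _).injective
    rw [homEquivSections_naturality_right, Equiv.apply_symm_apply,
      ← homEquivPull_naturality_right, Category.id_comp, Equiv.apply_symm_apply]

end

end Groth.Agent.H71.CohBC
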