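import Mathlib

/-!
helper71: abstract machinery for comparing `P ⊗_R Ext^n(Z, M)` with `Ext^n(Φ Z, N)` where
`Φ` is an exact functor, `R` acts on `M`, `P` is an `R`-module and `β : P → Hom(Φ M, N)` is
compatible with the actions.  Two-out-of-three for short exact sequences in the variable `Z`
when `P` is flat.
-/

set_option autoImplicit false
universe w w' v v' u u'
open CategoryTheory Abelian Limits TensorProduct ZeroObject

noncomputable section

namespace Groth.Agent.H71.CohBC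

variable {C : Type u} [Category.{v} C] [Abelian C] [HasExt.{w} C]
variable {D : Type u'} [Category.{v'} D] [Abelian D] [HasExt.{w'} D]

/-- an action of a commutative ring on an object of a preadditive category -/
structure Act (R : Type*) [CommRing R] (M : C) where
  ρ : R → (M ⟶ M)
  one : ρ 1 = 𝟙 M
  mul : ∀ r s, ρ (r * s) = ρ s ≫ ρ r
  add : ∀ r s, ρ (r + s) = ρ r + ρ s

variable {R : Type*} [CommRing R] {M : C}

omit [HasExt.{w} C] in
theorem Act.zero (a : Act R M) : a.ρ 0 = 0 := by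
  have h := a.add 0 0
  rw [add_zero] at h
  exact left_eq_add.mp h

/-- Ext groups into an object with an action, as `R`-modules. -/
def EExt (_a : Act R M) (Z : C) (n : ℕ) : Type w := Ext Z M n

namespace EExt

variable (a : Act R M) (Z : C) (n : ℕ)

instance : AddCommGroup (EExt a Z n) := inferInstanceAs (AddCommGroup (Ext Z M n))

/-- the underlying Ext class -/
def toExt {a : Act R M} {Z : C} {n : ℕ} (ξ : EExt a Z n) : Ext Z M n := ξ

/-- an Ext class as an element of `EExt` -/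
def ofExt (a : Act R M) {Z : C} {n : ℕ} (ξ : Ext Z M n) : EExt a Z n := ξ

instance : Module R (EExt a Z n) where
  smul r ξ := ofExt a ((toExt ξ).comp (Ext.mk₀ (a.ρ r)) (add_zero n))
  one_smul ξ := by
    change (toExt ξ).comp (Ext.mk₀ (a.ρ 1)) (add_zero n) = toExt ξ
    rw [a.one, Ext.comp_mk₀_id]
  mul_smul r s ξ := by
    change (toExt ξ).comp (Ext.mk₀ (a.ρ (r * s))) (add_zero n) =
      ((toExt ξ).comp (Ext.mk₀ (a.ρ s)) (add_zero n)).comp (Ext.mk₀ (a.ρ r)) (add_zero n)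
    rw [a.mul, Ext.comp_assoc _ _ _ (add_zero n) (add_zero 0) (by omega), Ext.mk₀_comp_mk₀]
  smul_zero r := by
    change (0 : Ext Z M n).comp (Ext.mk₀ (a.ρ r)) (add_zero n) = 0
    rw [Ext.zero_comp]
  smul_add r ξ η := by
    change (toExt ξ + toExt η).comp (Ext.mk₀ (a.ρ r)) (add_zero n) =
      (toExt ξ).comp (Ext.mk₀ (a.ρ r)) (add_zero n) + (toExt η).comp (Ext.mk₀ (a.ρ r)) (add_zero n)
    rw [Ext.add_comp]
  add_smul r s ξ := by
    change (toExt ξ).comp (Ext.mk₀ (a.ρ (r + s))) (add_zero n) =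
      (toExt ξ).comp (Ext.mk₀ (a.ρ r)) (add_zero n) + (toExt ξ).comp (Ext.mk₀ (a.ρ s)) (add_zero n)
    rw [a.add, Ext.mk₀_add, Ext.comp_add]
  zero_smul ξ := by
    change (toExt ξ).comp (Ext.mk₀ (a.ρ 0)) (add_zero n) = 0
    rw [a.zero, Ext.mk₀_zero, Ext.comp_zero]

theorem smul_def (r : R) (ξ : EExt a Z n) :
    toExt (r • ξ) = (toExt ξ).comp (Ext.mk₀ (a.ρ r)) (add_zero n) := rfl

end EExt

open EExt

/-- precomposition with an Ext class, as an `R`-linear map -/
def preL (a : Act R M) {Z Z' : C} {k : ℕ} (c : Ext Z' Z k) (n m : ℕ) (h : k + n = m) :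
    EExt a Z n →ₗ[R] EExt a Z' m where
  toFun ξ := ofExt a (c.comp (toExt ξ) h)
  map_add' ξ η := Ext.comp_add c (toExt ξ) (toExt η) h
  map_smul' r ξ := by
    change c.comp ((toExt ξ).comp (Ext.mk₀ (a.ρ r)) (add_zero n)) h =
      (c.comp (toExt ξ) h).comp (Ext.mk₀ (a.ρ r)) (add_zero m)
    rw [Ext.comp_assoc c (toExt ξ) (Ext.mk₀ (a.ρ r)) h (add_zero n) (by omega)]

theorem preL_apply (a : Act R M) {Z Z' : C} {k : ℕ} (c : Ext Z' Z k) (n m : ℕ) (h : k + n = m)
    (ξ : EExt a Z n) : toExt (preL a c n m h ξ) = c.comp (toExt ξ) h := rfl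

section Psi

variable (Φ : C ⥤ D) [Φ.Additive] [PreservesFiniteLimits Φ] [PreservesFiniteColimits Φ]

/-- a pairing `P → Hom(Φ M, N)` compatible with the action of `R` on `M` -/
structure Pairing (a : Act R M) (N : D) (P : Type*) [AddCommGroup P] [Module R P] where
  β : P →+ (Φ.obj M ⟶ N)
  smul : ∀ (r : R) (p : P), β (r • p) = Φ.map (a.ρ r) ≫ β p

variable {Φ} {a : Act R M} {N : D} {P : Type*} [AddCommGroup P] [Module R P]

/-- the comparison map `P ⊗_R Ext^n(Z, M) → Ext^n(Φ Z, N)` -/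
def Ψ (b : Pairing Φ a N P) (Z : C) (n : ℕ) :
    P ⊗[R] EExt a Z n →+ Ext (Φ.obj Z) N n :=
  TensorProduct.liftAddHom
    { toFun := fun p =>
        { toFun := fun ξ => ((toExt ξ).mapExactFunctor Φ).comp (Ext.mk₀ (b.β p)) (add_zero n)
          map_zero' := by
            change ((0 : Ext Z M n).mapExactFunctor Φ).comp _ _ = 0
            rw [Ext.mapExactFunctor_zero, Ext.zero_comp]
          map_add' := fun ξ η => by
            change ((toExt ξ + toExt η).mapExactFunctor Φ).comp _ _ = _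
            rw [Ext.mapExactFunctor_add, Ext.add_comp] }
      map_zero' := by
        ext ξ
        change ((toExt ξ).mapExactFunctor Φ).comp (Ext.mk₀ (b.β 0)) (add_zero n) = 0
        rw [map_zero, Ext.mk₀_zero, Ext.comp_zero]
      map_add' := fun p q => by
        ext ξ
        change ((toExt ξ).mapExactFunctor Φ).comp (Ext.mk₀ (b.β (p + q))) (add_zero n) =
          ((toExt ξ).mapExactFunctor Φ).comp (Ext.mk₀ (b.β p)) (add_zero n) +
          ((toExt ξ).mapExactFunctor Φ).comp (Ext.mk₀ (b.β q)) (add_zero n)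
        rw [map_add, Ext.mk₀_add, Ext.comp_add] }
    (fun r p ξ => by
      change ((toExt ξ).mapExactFunctor Φ).comp (Ext.mk₀ (b.β (r • p))) (add_zero n) =
        (((toExt ξ).comp (Ext.mk₀ (a.ρ r)) (add_zero n)).mapExactFunctor Φ).comp
          (Ext.mk₀ (b.β p)) (add_zero n)
      rw [b.smul, Ext.mapExactFunctor_comp, Ext.mapExactFunctor_mk₀,
        Ext.comp_assoc _ _ _ (add_zero n) (add_zero 0) (by omega), Ext.mk₀_comp_mk₀])

theorem Ψ_tmul (b : Pairing Φ a N P) (Z : C) (n : ℕ) (p : P) (ξ : EExt a Z n) :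
    Ψ b Z n (p ⊗ₜ[R] ξ) =
      ((toExt ξ).mapExactFunctor Φ).comp (Ext.mk₀ (b.β p)) (add_zero n) := rfl

/-- naturality of `Ψ` with respect to precomposition with Ext classes -/
theorem Ψ_preL (b : Pairing Φ a N P) {Z Z' : C} {k : ℕ} (c : Ext Z' Z k) (n m : ℕ)
    (h : k + n = m) (t : P ⊗[R] EExt a Z n) :
    Ψ b Z' m ((preL a c n m h).lTensor P t) = (c.mapExactFunctor Φ).comp (Ψ b Z n t) h := by
  induction t using TensorProduct.induction_on with
  | zero => rw [map_zero, map_zero, map_zero, Ext.comp_zero]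
  | tmul p ξ =>
    rw [LinearMap.lTensor_tmul, Ψ_tmul, Ψ_tmul, preL_apply, Ext.mapExactFunctor_comp,
      Ext.comp_assoc _ _ _ h (add_zero n) (by omega)]
  | add x y hx hy => rw [map_add, map_add, hx, hy, map_add, Ext.comp_add]

end Psi

section Exactness

variable {S : ShortComplex C} (hS : S.ShortExact) (a : Act R M)

include hS in
theorem exact_E_gf (n : ℕ) :
    Function.Exact (preL a (Ext.mk₀ S.g) n n (zero_add n)) (preL a (Ext.mk₀ S.f) n n (zero_add n)) := by
  have h := Ext.contravariant_sequence_exact₂' hS M n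
  rw [ShortComplex.ab_exact_iff_function_exact] at h
  exact h

theorem exact_E_fδ (n : ℕ) :
    Function.Exact (preL a (Ext.mk₀ S.f) n n (zero_add n))
      (preL a hS.extClass n (n + 1) (Nat.add_comm 1 n)) := by
  have h := Ext.contravariant_sequence_exact₁' hS M n (n + 1) (Nat.add_comm 1 n)
  rw [ShortComplex.ab_exact_iff_function_exact] at h
  exact h

theorem exact_E_δg (n : ℕ) :
    Function.Exact (preL a hS.extClass n (n + 1) (Nat.add_comm 1 n))
      (preL a (Ext.mk₀ S.g) (n + 1) (n + 1) (zero_add (n + 1))) := by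
  have h := Ext.contravariant_sequence_exact₃' hS M n (n + 1) (Nat.add_comm 1 n)
  rw [ShortComplex.ab_exact_iff_function_exact] at h
  exact h

include hS in
theorem injective_E_g₀ : Function.Injective (preL a (Ext.mk₀ S.g) 0 0 (zero_add 0)) := by
  haveI := hS.epi_g
  exact Ext.precomp_mk₀_injective_of_epi M S.g

end Exactness

section Five

variable {Φ : C ⥤ D} [Φ.Additive] [PreservesFiniteLimits Φ] [PreservesFiniteColimits Φ]
  {a : Act R M} {N : D} {P : Type*} [AddCommGroup P] [Module R P] [Module.Flat R P]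
  (b : Pairing Φ a N P) {S : ShortComplex C} (hS : S.ShortExact)

/-- the tensored maps -/
abbrev tg (a : Act R M) (P : Type*) [AddCommGroup P] [Module R P] (S : ShortComplex C) (n : ℕ) :
    P ⊗[R] EExt a S.X₃ n →+ P ⊗[R] EExt a S.X₂ n :=
  ((preL a (Ext.mk₀ S.g) n n (zero_add n)).lTensor P).toAddMonoidHom

abbrev tf (a : Act R M) (P : Type*) [AddCommGroup P] [Module R P] (S : ShortComplex C) (n : ℕ) :
    P ⊗[R] EExt a S.X₂ n →+ P ⊗[R] EExt a S.X₁ n :=
  ((preL a (Ext.mk₀ S.f) n n (zero_add n)).lTensor P).toAddMonoidHom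

abbrev tδ (a : Act R M) (P : Type*) [AddCommGroup P] [Module R P] {S : ShortComplex C}
    (hS : S.ShortExact) (n : ℕ) :
    P ⊗[R] EExt a S.X₁ n →+ P ⊗[R] EExt a S.X₃ (n + 1) :=
  ((preL a hS.extClass n (n + 1) (Nat.add_comm 1 n)).lTensor P).toAddMonoidHom

/-- the maps on the target side -/
abbrev ug (Φ : C ⥤ D) (N : D) (S : ShortComplex C) (n : ℕ) :
    Ext (Φ.obj S.X₃) N n →+ Ext (Φ.obj S.X₂) N n :=
  (Ext.mk₀ (Φ.map S.g)).precomp N (zero_add n)

abbrev uf (Φ : C ⥤ D) (N : D) (S : ShortComplex C) (n : ℕ) :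
    Ext (Φ.obj S.X₂) N n →+ Ext (Φ.obj S.X₁) N n :=
  (Ext.mk₀ (Φ.map S.f)).precomp N (zero_add n)

abbrev uδ (Φ : C ⥤ D) [Φ.Additive] [PreservesFiniteLimits Φ] [PreservesFiniteColimits Φ]
    (N : D) {S : ShortComplex C} (hS : S.ShortExact) (n : ℕ) :
    Ext (Φ.obj S.X₁) N n →+ Ext (Φ.obj S.X₃) N (n + 1) :=
  (hS.map_of_exact Φ).extClass.precomp N (Nat.add_comm 1 n)

include hS in
theorem exact_tg_tf (n : ℕ) : Function.Exact (tg a P S n) (tf a P S n) :=
  Module.Flat.lTensor_exact P (exact_E_gf hS a n)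

theorem exact_tf_tδ (n : ℕ) : Function.Exact (tf a P S n) (tδ a P hS n) :=
  Module.Flat.lTensor_exact P (exact_E_fδ hS a n)

theorem exact_tδ_tg (n : ℕ) : Function.Exact (tδ a P hS n) (tg a P S (n + 1)) :=
  Module.Flat.lTensor_exact P (exact_E_δg hS a n)

include hS in
theorem injective_tg₀ : Function.Injective (tg a P S 0) :=
  Module.Flat.lTensor_preserves_injective_linearMap _ (injective_E_g₀ hS a)

include hS in
theorem exact_ug_uf (n : ℕ) : Function.Exact (ug Φ N S n) (uf Φ N S n) := by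
  have h := Ext.contravariant_sequence_exact₂' (hS.map_of_exact Φ) N n
  rw [ShortComplex.ab_exact_iff_function_exact] at h
  exact h

theorem exact_uf_uδ (n : ℕ) : Function.Exact (uf Φ N S n) (uδ Φ N hS n) := by
  have h := Ext.contravariant_sequence_exact₁' (hS.map_of_exact Φ) N n (n + 1) (Nat.add_comm 1 n)
  rw [ShortComplex.ab_exact_iff_function_exact] at h
  exact h

theorem exact_uδ_ug (n : ℕ) : Function.Exact (uδ Φ N hS n) (ug Φ N S (n + 1)) := by
  have h := Ext.contravariant_sequence_exact₃' (hS.map_of_exact Φ) N n (n + 1) (Nat.add_comm 1 n)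
  rw [ShortComplex.ab_exact_iff_function_exact] at h
  exact h

include hS in
theorem injective_ug₀ : Function.Injective (ug Φ N S 0) := by
  haveI : Epi (Φ.map S.g) := (hS.map_of_exact Φ).epi_g
  exact Ext.precomp_mk₀_injective_of_epi N (Φ.map S.g)

theorem comm_g (n : ℕ) : (ug Φ N S n).comp (Ψ b S.X₃ n) = (Ψ b S.X₂ n).comp (tg a P S n) := by
  ext t
  have := Ψ_preL b (Ext.mk₀ S.g) n n (zero_add n) t
  rw [Ext.mapExactFunctor_mk₀] at this
  exact this.symm

theorem comm_f (n : ℕ) : (uf Φ N S n).comp (Ψ b S.X₂ n) = (Ψ b S.X₁ n).comp (tf a P S n) := by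
  ext t
  have := Ψ_preL b (Ext.mk₀ S.f) n n (zero_add n) t
  rw [Ext.mapExactFunctor_mk₀] at this
  exact this.symm

theorem comm_δ (n : ℕ) :
    (uδ Φ N hS n).comp (Ψ b S.X₁ n) = (Ψ b S.X₃ (n + 1)).comp (tδ a P hS n) := by
  ext t
  have := Ψ_preL b hS.extClass n (n + 1) (Nat.add_comm 1 n) t
  rw [Ext.mapExactFunctor_extClass] at this
  exact this.symm

include hS in
/-- two out of three: the third term -/
theorem Ψ_bijective₃ (h₁ : ∀ n, Function.Bijective (Ψ b S.X₁ n))
    (h₂ : ∀ n, Function.Bijective (Ψ b S.X₂ n)) (n : ℕ) : Function.Bijective (Ψ b S.X₃ n) := by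
  cases n with
  | zero =>
    exact AddMonoidHom.bijective_of_bijective_of_injective_of_left_exact
      (tg a P S 0) (tf a P S 0) (ug Φ N S 0) (uf Φ N S 0) (Ψ b S.X₃ 0) (Ψ b S.X₂ 0) (Ψ b S.X₁ 0)
      (comm_g b 0) (comm_f b 0) (exact_tg_tf hS 0) (exact_ug_uf hS 0) (h₂ 0) (h₁ 0).1
      (injective_tg₀ hS) (injective_ug₀ hS)
  | succ k =>
    exact AddMonoidHom.bijective_of_surjective_of_bijective_of_bijective_of_injective
      (tf a P S k) (tδ a P hS k) (tg a P S (k + 1)) (tf a P S (k + 1))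
      (uf Φ N S k) (uδ Φ N hS k) (ug Φ N S (k + 1)) (uf Φ N S (k + 1))
      (Ψ b S.X₂ k) (Ψ b S.X₁ k) (Ψ b S.X₃ (k + 1)) (Ψ b S.X₂ (k + 1)) (Ψ b S.X₁ (k + 1))
      (comm_f b k) (comm_δ b hS k) (comm_g b (k + 1)) (comm_f b (k + 1))
      (exact_tf_tδ hS k) (exact_tδ_tg hS k) (exact_tg_tf hS (k + 1))
      (exact_uf_uδ hS k) (exact_uδ_ug hS k) (exact_ug_uf hS (k + 1))
      (h₂ k).2 (h₁ k) (h₂ (k + 1)) (h₁ (k + 1)).1

include hS in
/-- two out of three: the middle term -/
theorem Ψ_bijective₂ (h₁ : ∀ n, Function.Bijective (Ψ b S.X₁ n))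
    (h₃ : ∀ n, Function.Bijective (Ψ b S.X₃ n)) (n : ℕ) : Function.Bijective (Ψ b S.X₂ n) := by
  constructor
  · cases n with
    | zero =>
      rw [injective_iff_map_eq_zero]
      intro x hx
      have h1 : Ψ b S.X₁ 0 (tf a P S 0 x) = 0 := by
        have := congr($(comm_f b (S := S) 0) x)
        simp only [AddMonoidHom.comp_apply] at this
        rw [← this, hx, map_zero]
      have h2 : tf a P S 0 x = 0 := (h₁ 0).1 (h1.trans (map_zero _).symm)
      obtain ⟨y, rfl⟩ := (exact_tg_tf hS 0 x).mp h2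
      have h3 : ug Φ N S 0 (Ψ b S.X₃ 0 y) = 0 := by
        have := congr($(comm_g b (S := S) 0) y)
        simp only [AddMonoidHom.comp_apply] at this
        rw [this, hx]
      have h4 : Ψ b S.X₃ 0 y = 0 := injective_ug₀ hS (h3.trans (map_zero _).symm)
      have h5 : y = 0 := (h₃ 0).1 (h4.trans (map_zero _).symm)
      rw [h5, map_zero]
    | succ k =>
      exact AddMonoidHom.injective_of_surjective_of_injective_of_injective
        (tδ a P hS k) (tg a P S (k + 1)) (tf a P S (k + 1))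
        (uδ Φ N hS k) (ug Φ N S (k + 1)) (uf Φ N S (k + 1))
        (Ψ b S.X₁ k) (Ψ b S.X₃ (k + 1)) (Ψ b S.X₂ (k + 1)) (Ψ b S.X₁ (k + 1))
        (comm_δ b hS k) (comm_g b (k + 1)) (comm_f b (k + 1))
        (exact_tδ_tg hS k) (exact_tg_tf hS (k + 1)) (exact_uδ_ug hS k)
        (h₁ k).2 (h₃ (k + 1)).1 (h₁ (k + 1)).1
  · exact AddMonoidHom.surjective_of_surjective_of_surjective_of_injective
      (tg a P S n) (tf a P S n) (tδ a P hS n)
      (ug Φ N S n) (uf Φ N S n) (uδ Φ N hS n)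
      (Ψ b S.X₃ n) (Ψ b S.X₂ n) (Ψ b S.X₁ n) (Ψ b S.X₃ (n + 1))
      (comm_g b n) (comm_f b n) (comm_δ b hS n)
      (exact_tf_tδ hS n) (exact_ug_uf hS n) (exact_uf_uδ hS n)
      (h₃ n).2 (h₁ n).2 (h₃ (n + 1)).1

end Five

section Cor

variable {Φ : C ⥤ D} [Φ.Additive] [PreservesFiniteLimits Φ] [PreservesFiniteColimits Φ]
  {a : Act R M} {N : D} {P : Type*} [AddCommGroup P] [Module R P]
  (b : Pairing Φ a N P)

omit [HasExt.{w'} D] [Φ.Additive] [PreservesFiniteLimits Φ] [PreservesFiniteColimits Φ] in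
theorem ext_eq_zero_of_isZero {Z : C} (hZ : IsZero Z) {n : ℕ} (ξ : Ext Z M n) : ξ = 0 := by
  rw [← Ext.mk₀_id_comp ξ, hZ.eq_of_src (𝟙 Z) 0, Ext.mk₀_zero, Ext.zero_comp]

theorem Ψ_bijective_of_isZero {Z : C} (hZ : IsZero Z) (n : ℕ) : Function.Bijective (Ψ b Z n) := by
  have hs : ∀ t : P ⊗[R] EExt a Z n, t = 0 := by
    intro t
    induction t using TensorProduct.induction_on with
    | zero => rfl
    | tmul p ξ =>
      have : ξ = 0 := ext_eq_zero_of_isZero hZ (toExt ξ)
      rw [this, TensorProduct.tmul_zero]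
    | add x y hx hy => rw [hx, hy, add_zero]
  have hΦ : IsZero (Φ.obj Z) := Φ.map_isZero hZ
  constructor
  · intro x y _
    rw [hs x, hs y]
  · intro y
    exact ⟨0, (map_zero _).trans (ext_eq_zero_of_isZero hΦ y).symm⟩

variable [Module.Flat R P]

theorem Ψ_bijective_of_iso {Z Z' : C} (e : Z ≅ Z') (h : ∀ n, Function.Bijective (Ψ b Z n))
    (n : ℕ) : Function.Bijective (Ψ b Z' n) := by
  have hS : (ShortComplex.mk (0 : (0 : C) ⟶ Z) e.hom zero_comp).ShortExact :=
    (ShortComplex.Splitting.ofIsZeroOfIsIso _ (isZero_zero C) (by dsimp; infer_instance)).shortExact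
  exact Ψ_bijective₃ b hS (fun n => Ψ_bijective_of_isZero b (isZero_zero C) n) h n

theorem Ψ_bijective_biprod {Z Z' : C} (h : ∀ n, Function.Bijective (Ψ b Z n))
    (h' : ∀ n, Function.Bijective (Ψ b Z' n)) (n : ℕ) :
    Function.Bijective (Ψ b (Z ⊞ Z') n) :=
  Ψ_bijective₂ b (ShortComplex.Splitting.ofHasBinaryBiproduct Z Z').shortExact h h' n

end Cor

end Groth.Agent.H71.CohBC

end
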