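import Mathlib
import Groth.Prelude.Def_CohPull
import Groth.Agent.H71.CohBC.Abstract

/-!
helper71: the pairing `B → Hom(g⁻¹ F, g^* F)` for a morphism of schemes `g : X' ⟶ X` over a ring map
`A → B`, compatible with the actions.
-/

set_option autoImplicit false
universe u
open CategoryTheory Limits TopologicalSpace Opposite AlgebraicGeometry

namespace Groth.Agent.H71.CohBC

noncomputable section

variable {X' X : Scheme.{u}} (g : X' ⟶ X) (F : X.Modules)

/-- the unit `F ⟶ g_* g^* F` on underlying abelian sheaves -/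
abbrev unitAb : Coh.toAb F ⟶ (CohTop.push g.base).obj (Coh.toAb ((Scheme.Modules.pullback g).obj F)) :=
  (SheafOfModules.toSheaf X.ringCatSheaf).map
    ((Scheme.Modules.pullbackPushforwardAdjunction g).unit.app F)

theorem unitAb_smul (r : Coh.Γtop X) :
    Coh.smulAb F r ≫ unitAb g F =
      unitAb g F ≫ (CohTop.push g.base).map
        (Coh.smulAb ((Scheme.Modules.pullback g).obj F) (g.appTop.hom r)) := by
  ext U s
  change ((unitAb g F).hom.app U) ((Coh.smulAb F r).hom.app U s) =
    (Coh.smulAb ((Scheme.Modules.pullback g).obj F) (g.appTop.hom r)).hom.app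
      (op (g ⁻¹ᵁ U.unop)) ((unitAb g F).hom.app U s)
  rw [Coh.smulAb_app, Coh.smulAb_app]
  have h1 := (((Scheme.Modules.pullbackPushforwardAdjunction g).unit.app F).val.app U).hom.map_smul
    (Coh.resTop X U r) s
  refine h1.trans ?_
  have h2 : (g.app U.unop).hom (Coh.resTop X U r) =
      Coh.resTop X' (op (g ⁻¹ᵁ U.unop)) (g.appTop.hom r) := by
    have := g.naturality (homOfLE (le_top : U.unop ≤ ⊤)).op
    exact (congr($this r))
  rw [← h2]
  rfl

theorem theta_smul (r : Coh.Γtop X) :
    (CohPull.inv g.base).map (Coh.smulAb F r) ≫ CohPull.theta g F =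
      CohPull.theta g F ≫ Coh.smulAb ((Scheme.Modules.pullback g).obj F) (g.appTop.hom r) := by
  unfold CohPull.theta
  rw [← Adjunction.homEquiv_naturality_left_symm, ← Adjunction.homEquiv_naturality_right_symm]
  congr 1
  exact unitAb_smul g F r

/-- the action of a ring mapping to the global functions on the underlying abelian sheaf -/
def actOf {A : Type u} [CommRing A] (σ : A →+* Coh.Γtop X) : Act A (Coh.toAb F) where
  ρ a := Coh.smulAb F (σ a)
  one := by rw [map_one, Coh.smulAb_one]
  mul r s := by rw [map_mul, Coh.smulAb_mul]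
  add r s := by rw [map_add, Coh.smulAb_add]

/-- the pairing `B → Hom(g⁻¹ F, g^* F)`, `b ↦ b • θ` -/
def pairingOf {A B : Type u} [CommRing A] [CommRing B] [Algebra A B]
    (σ : A →+* Coh.Γtop X) (τ : B →+* Coh.Γtop X')
    (hστ : ∀ a : A, τ (algebraMap A B a) = g.appTop.hom (σ a)) :
    Pairing (CohPull.inv g.base) (actOf F σ) (Coh.toAb ((Scheme.Modules.pullback g).obj F)) B where
  β :=
    { toFun := fun b => CohPull.theta g F ≫ Coh.smulAb ((Scheme.Modules.pullback g).obj F) (τ b)
      map_zero' := by rw [map_zero, Coh.smulAb_zero, comp_zero]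
      map_add' := fun b b' => by rw [map_add, Coh.smulAb_add, Preadditive.comp_add] }
  smul a b := by
    change CohPull.theta g F ≫ Coh.smulAb _ (τ (a • b)) =
      (CohPull.inv g.base).map (Coh.smulAb F (σ a)) ≫
        CohPull.theta g F ≫ Coh.smulAb _ (τ b)
    rw [← Category.assoc, theta_smul, Category.assoc, ← Coh.smulAb_mul, Algebra.smul_def, map_mul,
      hστ]
    congr 2
    exact mul_comm (G := Γ(X', ⊤)) _ _

end

end Groth.Agent.H71.CohBC
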