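import Mathlib
import Groth.Agent.H71.CohBC.Pairing
import Groth.Agent.H71.CohBC.FreePull
import Groth.Agent.H71.BaseChangeAlg
import Groth.Agent.H44.PullUnit
import Groth.Agent.Lead.Coh.AffineOpen

/-!
helper71: the base case of the Mayer–Vietoris induction for flat base change of cohomology:
for `W` affine with affine preimage, the comparison map is bijective in all degrees.
-/

set_option autoImplicit false
universe u
open CategoryTheory Limits TopologicalSpace Opposite AlgebraicGeometry Abelian TensorProduct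

namespace Groth.Agent.H71.CohBC

open Groth.Agent.Lead.Coh

noncomputable section

theorem addEquiv₀_mk₀ {C : Type*} [Category C] [Abelian C] [HasExt C] {Z M : C} (φ : Z ⟶ M) :
    Ext.addEquiv₀ (Ext.mk₀ φ) = φ := by
  apply (Ext.mk₀_bijective _ _).1
  simp [Ext.addEquiv₀, Ext.mk₀_homEquiv₀_apply]

theorem mk₀_addEquiv₀ {C : Type*} [Category C] [Abelian C] [HasExt C] {Z M : C} (ξ : Ext Z M 0) :
    Ext.mk₀ (Ext.addEquiv₀ ξ) = ξ := by
  simp [Ext.addEquiv₀, Ext.mk₀_homEquiv₀_apply]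

variable {X' X : Scheme.{u}} (g : X' ⟶ X) (F : X.Modules)

/-- degree zero classes out of the free sheaf on `W` are sections over `W` -/
def ext₀EquivSections (W : X.Opens) : Ext (ZZ X.toTopCat W) (Coh.toAb F) 0 ≃+ Γ(F, W) where
  toFun ξ := homEquivSections W (Coh.toAb F) (Ext.addEquiv₀ ξ)
  invFun s := Ext.addEquiv₀.symm ((homEquivSections W (Coh.toAb F)).symm s)
  left_inv ξ := by simp
  right_inv s := by
    change homEquivSections W (Coh.toAb F) (Ext.addEquiv₀ (Ext.mk₀ _)) = s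
    rw [addEquiv₀_mk₀]
    exact Equiv.apply_symm_apply _ _
  map_add' ξ η := by
    rw [map_add]
    exact homEquivSections_add W (Coh.toAb F) _ _

theorem ext₀EquivSections_mk₀ (W : X.Opens) (φ : ZZ X.toTopCat W ⟶ Coh.toAb F) :
    ext₀EquivSections F W (Ext.mk₀ φ) = homEquivSections W (Coh.toAb F) φ := by
  change homEquivSections W (Coh.toAb F) (Ext.addEquiv₀ (Ext.mk₀ φ)) = _
  rw [addEquiv₀_mk₀]

/-- degree zero classes out of `g⁻¹ ℤ_W` are sections over `g⁻¹ W` -/
def ext₀EquivPull (N : X'.Modules) (W : X.Opens) :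
    Ext ((CohPull.inv g.base).obj (ZZ X.toTopCat W)) (Coh.toAb N) 0 ≃+ Γ(N, g ⁻¹ᵁ W) where
  toFun ξ := homEquivPull g.base W (Coh.toAb N) (Ext.addEquiv₀ ξ)
  invFun s := Ext.addEquiv₀.symm ((homEquivPull g.base W (Coh.toAb N)).symm s)
  left_inv ξ := by simp
  right_inv s := by
    change homEquivPull g.base W (Coh.toAb N) (Ext.addEquiv₀ (Ext.mk₀ _)) = s
    rw [addEquiv₀_mk₀]
    exact Equiv.apply_symm_apply _ _
  map_add' ξ η := by
    rw [map_add]
    exact homEquivPull_add g.base W (Coh.toAb N) _ _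

theorem ext₀EquivPull_mk₀ (N : X'.Modules) (W : X.Opens)
    (k : (CohPull.inv g.base).obj (ZZ X.toTopCat W) ⟶ Coh.toAb N) :
    ext₀EquivPull g N W (Ext.mk₀ k) = homEquivPull g.base W (Coh.toAb N) k := by
  change homEquivPull g.base W (Coh.toAb N) (Ext.addEquiv₀ (Ext.mk₀ k)) = _
  rw [addEquiv₀_mk₀]

theorem homEquivPull_theta (W : X.Opens) (φ : ZZ X.toTopCat W ⟶ Coh.toAb F) :
    homEquivPull g.base W _ ((CohPull.inv g.base).map φ ≫ CohPull.theta g F) =
      OmegaSh.pullSect g F W (homEquivSections W (Coh.toAb F) φ) := by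
  unfold homEquivPull
  rw [Equiv.trans_apply, Adjunction.homEquiv_naturality_left]
  have h1 : (CohPull.invPushAdj g.base).homEquiv _ _ (CohPull.theta g F) = unitAb g F :=
    Equiv.apply_symm_apply _ _
  rw [h1]
  exact homEquivSections_naturality_right W (unitAb g F) φ

variable {A B : Type u} [CommRing A] [CommRing B] [Algebra A B]
  (σ : A →+* Coh.Γtop X) (τ : B →+* Coh.Γtop X')
  (hστ : ∀ a : A, τ (algebraMap A B a) = g.appTop.hom (σ a))

theorem ext₀EquivPull_Ψ (W : X.Opens) (b : B) (ξ : EExt (actOf F σ) (ZZ X.toTopCat W) 0) :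
    ext₀EquivPull g ((Scheme.Modules.pullback g).obj F) W
        (Ψ (pairingOf g F σ τ hστ) (ZZ X.toTopCat W) 0 (b ⊗ₜ[A] ξ)) =
      (X'.presheaf.map (homOfLE (le_top : g ⁻¹ᵁ W ≤ ⊤)).op (τ b) : Γ(X', g ⁻¹ᵁ W)) •
        OmegaSh.pullSect g F W (ext₀EquivSections F W (EExt.toExt ξ)) := by
  obtain ⟨φ, hφ⟩ : ∃ φ, EExt.toExt ξ = Ext.mk₀ φ := ⟨_, (mk₀_addEquiv₀ _).symm⟩
  rw [Ψ_tmul, hφ, Ext.mapExactFunctor_mk₀, Ext.mk₀_comp_mk₀, ext₀EquivPull_mk₀,
    ext₀EquivSections_mk₀]
  change homEquivPull g.base W _ ((CohPull.inv g.base).map φ ≫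
    CohPull.theta g F ≫ Coh.smulAb _ (τ b)) = _
  rw [← Category.assoc, homEquivPull_naturality_right, homEquivPull_theta]
  rfl

end

end Groth.Agent.H71.CohBC
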