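import Mathlib
import Groth.Agent.H71.CohBC.Base

/-!
helper71: the degree zero base case: for a cartesian square over `Spec A ← Spec B` and `W` affine,
`B ⊗_A Γ(F, W) → Γ(g^* F, g⁻¹ W)` is bijective, in the form needed for the comparison map `Ψ`.
-/

set_option autoImplicit false
universe u
open CategoryTheory Limits TopologicalSpace Opposite AlgebraicGeometry Abelian TensorProduct

namespace Groth.Agent.H71.CohBC

open Groth.Agent.Lead.Coh

noncomputable section

variable {A B : Type u} [CommRing A] [CommRing B] [Algebra A B]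
  {X' X : Scheme.{u}} {g : X' ⟶ X} {iX : X ⟶ Spec (CommRingCat.of A)}
  {iY : X' ⟶ Spec (CommRingCat.of B)}

/-- the structure map `A → Γ(X, W)` -/
abbrev strMap (iX : X ⟶ Spec (CommRingCat.of A)) (W : X.Opens) : CommRingCat.of A ⟶ Γ(X, W) :=
  (Scheme.ΓSpecIso (CommRingCat.of A)).inv ≫ iX.appLE ⊤ W le_top

theorem isPushout_sections_top
    (h : IsPullback g iY iX (Spec.map (CommRingCat.ofHom (algebraMap A B))))
    {W : X.Opens} (hW : IsAffineOpen W) :
    IsPushout (CommRingCat.ofHom (algebraMap A B)) (strMap iX W)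
      (strMap iY (g ⁻¹ᵁ W)) (g.appLE W (g ⁻¹ᵁ W) le_rfl) := by
  have hUY : g ⁻¹ᵁ W = g ⁻¹ᵁ W ⊓ iY ⁻¹ᵁ ⊤ := by simp
  have h1 := isIso_pushoutSection_of_isAffineOpen h (US := ⊤) (UT := ⊤) (UX := W) le_top le_top hUY
    (isAffineOpen_top _) (isAffineOpen_top _) hW
  have h2 := (isIso_pushoutSection_iff h (US := ⊤) (UT := ⊤) (UX := W) le_top le_top hUY).mp h1
  refine (h2.of_iso (Scheme.ΓSpecIso (CommRingCat.of A)) (Iso.refl _)
    (Scheme.ΓSpecIso (CommRingCat.of B)) (Iso.refl _) ?_ ?_ ?_ ?_).flip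
  · simp [strMap]
  · have := Scheme.ΓSpecIso_naturality (CommRingCat.ofHom (algebraMap A B))
    rw [← this]
    congr 1
  · simp
  · simp [strMap]

theorem toGlobal_compat
    (h : IsPullback g iY iX (Spec.map (CommRingCat.ofHom (algebraMap A B)))) (a : A) :
    Coh.toGlobal iY (algebraMap A B a) = g.appTop.hom (Coh.toGlobal iX a) := by
  have h1 := Scheme.ΓSpecIso_inv_naturality (CommRingCat.ofHom (algebraMap A B))
  have h2 : (Scheme.ΓSpecIso (CommRingCat.of B)).inv.hom (algebraMap A B a) =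
      (Spec.map (CommRingCat.ofHom (algebraMap A B))).appTop.hom
        ((Scheme.ΓSpecIso (CommRingCat.of A)).inv.hom a) := congr($h1 a)
  have h3 : iX.appTop ≫ g.appTop =
      (Spec.map (CommRingCat.ofHom (algebraMap A B))).appTop ≫ iY.appTop := by
    rw [← Scheme.Hom.comp_appTop, ← Scheme.Hom.comp_appTop, h.w]
  change iY.appTop.hom ((Scheme.ΓSpecIso (CommRingCat.of B)).inv.hom (algebraMap A B a)) =
    g.appTop.hom (iX.appTop.hom ((Scheme.ΓSpecIso (CommRingCat.of A)).inv.hom a))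
  rw [h2]
  exact (congr($h3 ((Scheme.ΓSpecIso (CommRingCat.of A)).inv.hom a))).symm

theorem resTop_toGlobal (W : X.Opens) (a : A) :
    Coh.resTop X (op W) (Coh.toGlobal iX a) = (strMap iX W).hom a := by
  rfl

/-- the pairing attached to a cartesian square over `Spec A ← Spec B` -/
abbrev pairingSq (h : IsPullback g iY iX (Spec.map (CommRingCat.ofHom (algebraMap A B))))
    (F : X.Modules) :
    Pairing (CohPull.inv g.base) (actOf F (Coh.toGlobal iX))
      (Coh.toAb ((Scheme.Modules.pullback g).obj F)) B :=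
  pairingOf g F (Coh.toGlobal iX) (Coh.toGlobal iY) (toGlobal_compat h)

set_option maxHeartbeats 1600000 in
set_option maxRecDepth 4000 in
theorem Ψ₀_bijective (h : IsPullback g iY iX (Spec.map (CommRingCat.ofHom (algebraMap A B))))
    (F : X.Modules) [F.IsQuasicoherent] {W : X.Opens} (hW : IsAffineOpen W)
    (hW' : IsAffineOpen (g ⁻¹ᵁ W)) :
    Function.Bijective (Ψ (pairingSq h F) (ZZ X.toTopCat W) 0) := by
  letI a1 : Algebra A Γ(X, W) := (strMap iX W).hom.toAlgebra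
  letI a2 : Algebra B Γ(X', g ⁻¹ᵁ W) := (strMap iY (g ⁻¹ᵁ W)).hom.toAlgebra
  letI a3 : Algebra Γ(X, W) Γ(X', g ⁻¹ᵁ W) := (g.appLE W (g ⁻¹ᵁ W) le_rfl).hom.toAlgebra
  letI a4 : Algebra A Γ(X', g ⁻¹ᵁ W) :=
    (CommRingCat.ofHom (algebraMap A B) ≫ strMap iY (g ⁻¹ᵁ W)).hom.toAlgebra
  haveI t1 : IsScalarTower A B Γ(X', g ⁻¹ᵁ W) := IsScalarTower.of_algebraMap_eq' rfl
  have hpo := isPushout_sections_top h hW
  haveI t2 : IsScalarTower A Γ(X, W) Γ(X', g ⁻¹ᵁ W) :=
    IsScalarTower.of_algebraMap_eq' (congrArg (fun k => k.hom) hpo.w)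
  haveI po : Algebra.IsPushout A B Γ(X, W) Γ(X', g ⁻¹ᵁ W) :=
    CommRingCat.isPushout_iff_isPushout.mp hpo
  letI mA : Module A Γ(F, W) := Module.compHom Γ(F, W) (algebraMap A Γ(X, W))
  haveI t3 : IsScalarTower A Γ(X, W) Γ(F, W) :=
    IsScalarTower.of_algebraMap_smul (fun _ _ => rfl)
  -- the linear equivalence `Ext^0(ℤ_W, F) ≃ Γ(F, W)`
  let ι : EExt (actOf F (Coh.toGlobal iX)) (ZZ X.toTopCat W) 0 ≃ₗ[A] Γ(F, W) :=
    { (ext₀EquivSections F W) with
      map_smul' := fun a ξ => by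
        obtain ⟨φ, hφ⟩ : ∃ φ, EExt.toExt ξ = Ext.mk₀ φ := ⟨_, (mk₀_addEquiv₀ _).symm⟩
        change ext₀EquivSections F W (EExt.toExt (a • ξ)) =
          (strMap iX W).hom a • ext₀EquivSections F W (EExt.toExt ξ)
        rw [EExt.smul_def, hφ, Ext.mk₀_comp_mk₀, ext₀EquivSections_mk₀, ext₀EquivSections_mk₀,
          ← resTop_toGlobal]
        exact homEquivSections_naturality_right W (Coh.smulAb F (Coh.toGlobal iX a)) φ }
  let E₂ : Ext ((CohPull.inv g.base).obj (ZZ X.toTopCat W))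
      (Coh.toAb ((Scheme.Modules.pullback g).obj F)) 0 ≃+ Γ(X', g ⁻¹ᵁ W) ⊗[Γ(X, W)] Γ(F, W) :=
    (ext₀EquivPull g ((Scheme.Modules.pullback g).obj F) W).trans
      (Groth.Agent.H44.pullbackSectionsEquiv g F hW' hW le_rfl).toAddEquiv
  refine Groth.Agent.H71.BaseChange.bijective_of_tensor' (R := A) (R' := B) (S := Γ(X, W))
    (S' := Γ(X', g ⁻¹ᵁ W)) (M := Γ(F, W)) ι
    (Ψ (pairingSq h F) (ZZ X.toTopCat W) 0) (AddEquiv.refl _) E₂ ?_
  intro b ξ
  change (Groth.Agent.H44.pullbackSectionsEquiv g F hW' hW le_rfl)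
    (ext₀EquivPull g ((Scheme.Modules.pullback g).obj F) W
      (Ψ (pairingSq h F) (ZZ X.toTopCat W) 0 (b ⊗ₜ[A] ξ))) = _
  rw [ext₀EquivPull_Ψ, _root_.map_smul]
  have h5 : OmegaSh.pullSect g F W (ext₀EquivSections F W (EExt.toExt ξ)) =
      Groth.Agent.H44.pullSectLE g F W (g ⁻¹ᵁ W) le_rfl (ext₀EquivSections F W (EExt.toExt ξ)) :=
    (Groth.Agent.H44.pullSectLE_self g F W _).symm
  rw [h5, Groth.Agent.H44.pullbackSectionsEquiv_pullSectLE, TensorProduct.smul_tmul', smul_eq_mul,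
    mul_one]
  rfl

end

end Groth.Agent.H71.CohBC
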