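import Mathlib
import Groth.Agent.H71.CohBC.Base0
import Groth.Agent.Lead.Coh.QcqsInd
import Groth.Agent.Lead.Coh.TopIso

/-!
helper71: flat base change for the cohomology of quasi-coherent modules over an affine base:
the Mayer–Vietoris induction.
-/

set_option autoImplicit false
universe u
open CategoryTheory Limits TopologicalSpace Opposite AlgebraicGeometry Abelian TensorProduct

namespace Groth.Agent.H71.CohBC

open Groth.Agent.Lead.Coh

noncomputable section

variable {A B : Type u} [CommRing A] [CommRing B] [Algebra A B]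
  {X' X : Scheme.{u}} {g : X' ⟶ X} {iX : X ⟶ Spec (CommRingCat.of A)}
  {iY : X' ⟶ Spec (CommRingCat.of B)}

/-- higher degrees of the base case: both sides vanish -/
theorem Ψ_succ_bijective (F : X.Modules) [F.IsQuasicoherent]
    {a : Act A (Coh.toAb F)}
    (b : Pairing (CohPull.inv g.base) a (Coh.toAb ((Scheme.Modules.pullback g).obj F)) B)
    {W : X.Opens} (hW : IsAffineOpen W) (hW' : IsAffineOpen (g ⁻¹ᵁ W)) (n : ℕ) :
    Function.Bijective (Ψ b (ZZ X.toTopCat W) (n + 1)) := by
  have hs : ∀ t : B ⊗[A] EExt a (ZZ X.toTopCat W) (n + 1), t = 0 := by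
    intro t
    induction t using TensorProduct.induction_on with
    | zero => rfl
    | tmul p ξ =>
      have : ξ = 0 := hVanish_of_isAffineOpen X F hW n (EExt.toExt ξ)
      rw [this, TensorProduct.tmul_zero]
    | add x y hx hy => rw [hx, hy, add_zero]
  have ht : ∀ η : Ext ((CohPull.inv g.base).obj (ZZ X.toTopCat W))
      (Coh.toAb ((Scheme.Modules.pullback g).obj F)) (n + 1), η = 0 := by
    intro η
    have h1 : (Ext.mk₀ (pullFreeIso g.base W).inv).comp η (zero_add (n + 1)) = 0 :=
      hVanish_of_isAffineOpen X' ((Scheme.Modules.pullback g).obj F) hW' n _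
    have h2 : η = (Ext.mk₀ (pullFreeIso g.base W).hom).comp
        ((Ext.mk₀ (pullFreeIso g.base W).inv).comp η (zero_add (n + 1))) (zero_add (n + 1)) := by
      rw [Ext.mk₀_comp_mk₀_assoc, Iso.hom_inv_id, Ext.mk₀_id_comp]
    rw [h2, h1, Ext.comp_zero]
  constructor
  · intro x y _
    rw [hs x, hs y]
  · intro y
    exact ⟨0, (map_zero _).trans (ht y).symm⟩

end

end Groth.Agent.H71.CohBC
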