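import Mathlib
import Groth.Agent.H71.CohBC.Main
import Groth.Agent.Lead.Coh.MVVanish

/-!
helper71: flat base change for the cohomology of quasi-coherent modules over an affine base:
the comparison map `Ψ` is bijective on every quasi-compact open of a quasi-separated scheme.
-/

set_option autoImplicit false
universe u
open CategoryTheory Limits TopologicalSpace Opposite AlgebraicGeometry Abelian TensorProduct

namespace Groth.Agent.H71.CohBC

open Groth.Agent.Lead.Coh

noncomputable section

variable {A B : Type u} [CommRing A] [CommRing B] [Algebra A B]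
  {X' X : Scheme.{u}} {g : X' ⟶ X} {iX : X ⟶ Spec (CommRingCat.of A)}
  {iY : X' ⟶ Spec (CommRingCat.of B)}

theorem isAffineHom_of_isPullback
    (h : IsPullback g iY iX (Spec.map (CommRingCat.ofHom (algebraMap A B)))) : IsAffineHom g :=
  MorphismProperty.of_isPullback (P := @IsAffineHom) h.flip inferInstance

theorem Ψ_bijective_of_isCompact [Module.Flat A B]
    (h : IsPullback g iY iX (Spec.map (CommRingCat.ofHom (algebraMap A B))))
    (F : X.Modules) [F.IsQuasicoherent] [QuasiSeparatedSpace X]
    (W : X.Opens) (hW : IsCompact (W : Set X)) (n : ℕ) :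
    Function.Bijective (Ψ (pairingSq h F) (ZZ X.toTopCat W) n) := by
  haveI := isAffineHom_of_isPullback h
  revert n
  refine qcqs_induction
    (P := fun W : X.Opens => ∀ n, Function.Bijective (Ψ (pairingSq h F) (ZZ X.toTopCat W) n))
    ?_ ?_ ⊤ ?_ ?_ W le_top hW
  · intro n
    exact Ψ_bijective_of_isZero _ (isZero_freeSheaf_bot (T := X)) n
  · intro W₁ W₂ h₁ h₂ h₁₂
    have hS := (Opens.mayerVietorisSquare W₁ W₂).shortComplex_shortExact
    exact Ψ_bijective₃ (pairingSq h F) hS h₁₂ (Ψ_bijective_biprod _ h₁ h₂)
  · exact isQuasiSeparated_univ_iff.mpr inferInstance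
  · intro U hU _ n
    have hU' : IsAffineOpen (g ⁻¹ᵁ U) := hU.preimage g
    cases n with
    | zero => exact Ψ₀_bijective h F hU hU'
    | succ k => exact Ψ_succ_bijective F _ hU hU' k

end

end Groth.Agent.H71.CohBC
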