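import Mathlib
import Groth.Agent.H71.CohBC.Induct

/-!
helper71: flat base change for the cohomology of quasi-coherent modules over an affine base:
the final statement `B ⊗_A H^i(X, F) ≃ₗ[B] H^i(X', g^* F)`.
-/

set_option autoImplicit false
universe u
open CategoryTheory Limits TopologicalSpace Opposite AlgebraicGeometry Abelian TensorProduct

namespace Groth.Agent.H71.CohBC

open Groth.Agent.Lead.Coh

noncomputable section

/-- the constant sheaf `ℤ` -/
abbrev KK (T : TopCat.{u}) : CohTop.Ab T :=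
  (constantSheaf (Opens.grothendieckTopology T) AddCommGrpCat.{u}).obj (AddCommGrpCat.of (ULift ℤ))

theorem flat_base_change_affine_base (A B : Type u) [CommRing A] [CommRing B] [Algebra A B]
    [Module.Flat A B] (X X' : Scheme.{u}) [X.Over (Spec (CommRingCat.of A))]
    [X'.Over (Spec (CommRingCat.of B))] [CompactSpace X] [QuasiSeparatedSpace X] (g' : X' ⟶ X)
    (h : IsPullback g' (X' ↘ Spec (CommRingCat.of B)) (X ↘ Spec (CommRingCat.of A))
      (Spec.map (CommRingCat.ofHom (algebraMap A B))))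
    (M : X.Modules) [M.IsQuasicoherent] (i : ℕ) :
    Nonempty (TensorProduct A B (Coh.HH X M i) ≃ₗ[B]
      Coh.HH X' ((Scheme.Modules.pullback g').obj M) i) := by
  obtain ⟨κ⟩ := exists_iso_constant (J := Opens.grothendieckTopology X) (T₀ := (⊤ : X.Opens))
    isTerminalTop
  obtain ⟨κ'⟩ := exists_iso_constant (J := Opens.grothendieckTopology X') (T₀ := (⊤ : X'.Opens))
    isTerminalTop
  let b := pairingSq h M
  let a := actOf M (Coh.toGlobal (X ↘ Spec (CommRingCat.of A)))
  have hbij : Function.Bijective (Ψ b (KK X.toTopCat) i) :=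
    Ψ_bijective_of_iso b κ
      (fun n => Ψ_bijective_of_isCompact h M ⊤ (by simpa using isCompact_univ) n) i
  let ι : (CohPull.inv g'.base).obj (KK X.toTopCat) ≅ KK X'.toTopCat :=
    (CohPull.inv g'.base).mapIso κ.symm ≪≫ pullFreeIso g'.base ⊤ ≪≫ κ'
  let ε : Coh.HH X M i ≃ₗ[A] EExt a (KK X.toTopCat) i :=
    { toFun := fun x => EExt.ofExt a x
      invFun := fun ξ => EExt.toExt ξ
      left_inv := fun _ => rfl
      right_inv := fun _ => rfl
      map_add' := fun _ _ => rfl
      map_smul' := fun _ _ => rfl }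
  let f₀ : TensorProduct A B (Coh.HH X M i) →+
      Coh.HH X' ((Scheme.Modules.pullback g').obj M) i :=
    ((Ext.mk₀ ι.inv).precomp _ (zero_add i)).comp
      ((Ψ b (KK X.toTopCat) i).comp
        (TensorProduct.congr (LinearEquiv.refl A B) ε).toLinearMap.toAddMonoidHom)
  have hf₀ : ∀ (b' : B) (t : TensorProduct A B (Coh.HH X M i)), f₀ (b' • t) = b' • f₀ t := by
    intro b' t
    induction t using TensorProduct.induction_on with
    | zero => rw [smul_zero, map_zero, smul_zero]
    | tmul c x =>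
      rw [TensorProduct.smul_tmul', smul_eq_mul]
      change (Ext.mk₀ ι.inv).comp (Ψ b (KK X.toTopCat) i ((b' * c) ⊗ₜ[A] ε x)) (zero_add i) =
        ((Ext.mk₀ ι.inv).comp (Ψ b (KK X.toTopCat) i (c ⊗ₜ[A] ε x)) (zero_add i)).comp
          (Ext.mk₀ (Coh.smulAb _ (Coh.toGlobal (X' ↘ Spec (CommRingCat.of B)) b'))) (add_zero i)
      rw [Ψ_tmul, Ψ_tmul, Ext.comp_assoc _ _ _ (zero_add i) (add_zero i) (by omega),
        Ext.comp_assoc _ _ _ (add_zero i) (add_zero 0) (by omega), Ext.mk₀_comp_mk₀]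
      congr 3
      change CohPull.theta g' M ≫ Coh.smulAb _ (Coh.toGlobal _ (b' * c)) =
        (CohPull.theta g' M ≫ Coh.smulAb _ (Coh.toGlobal _ c)) ≫ Coh.smulAb _ (Coh.toGlobal _ b')
      rw [map_mul, Coh.smulAb_mul, Category.assoc]
    | add x y hx hy => rw [smul_add, map_add, hx, hy, map_add, smul_add]
  have hpre : Function.Bijective
      ((Ext.mk₀ ι.inv).precomp (Coh.toAb ((Scheme.Modules.pullback g').obj M)) (zero_add i)) := by
    constructor
    · intro x y hxy
      have h1 : (Ext.mk₀ ι.inv).comp x (zero_add i) = (Ext.mk₀ ι.inv).comp y (zero_add i) := hxy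
      have h2 := congrArg (fun z => (Ext.mk₀ ι.hom).comp z (zero_add i)) h1
      simpa only [Ext.mk₀_comp_mk₀_assoc, Iso.hom_inv_id, Ext.mk₀_id_comp] using h2
    · intro y
      refine ⟨(Ext.mk₀ ι.hom).comp y (zero_add i), ?_⟩
      change (Ext.mk₀ ι.inv).comp ((Ext.mk₀ ι.hom).comp y (zero_add i)) (zero_add i) = y
      rw [Ext.mk₀_comp_mk₀_assoc, Iso.inv_hom_id, Ext.mk₀_id_comp]
  have hf₀bij : Function.Bijective f₀ :=
    hpre.comp (hbij.comp (TensorProduct.congr (LinearEquiv.refl A B) ε).bijective)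
  exact ⟨LinearEquiv.ofBijective
    { toFun := f₀, map_add' := f₀.map_add, map_smul' := hf₀ } hf₀bij⟩

end

end Groth.Agent.H71.CohBC
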