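import Mathlib
import Groth.Agent.H71.CohBC.Final
import Groth.Agent.H5.PullbackUnit

/-!
helper71: cohomology of isomorphic modules, linearly; the genus is invariant under field extension.
-/

set_option autoImplicit false
universe u
open CategoryTheory Limits TopologicalSpace Opposite AlgebraicGeometry Abelian TensorProduct

namespace Groth.Agent.H71.CohBC

noncomputable section

variable {X : Scheme.{u}}

theorem smulAb_naturality {M N : X.Modules} (φ : M ⟶ N) (r : Coh.Γtop X) :
    Coh.smulAb M r ≫ (SheafOfModules.toSheaf X.ringCatSheaf).map φ =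
      (SheafOfModules.toSheaf X.ringCatSheaf).map φ ≫ Coh.smulAb N r := by
  ext U s
  change (φ.val.app U).hom ((Coh.smulAb M r).hom.app U s) =
    (Coh.smulAb N r).hom.app U ((φ.val.app U).hom s)
  rw [Coh.smulAb_app, Coh.smulAb_app]
  exact (φ.val.app U).hom.map_smul _ _

/-- the map of underlying abelian sheaves -/
abbrev toAbMap {M N : X.Modules} (φ : M ⟶ N) : Coh.toAb M ⟶ Coh.toAb N :=
  (SheafOfModules.toSheaf X.ringCatSheaf).map φ

theorem toAbMap_comp {M N P : X.Modules} (φ : M ⟶ N) (ψ : N ⟶ P) :
    toAbMap (φ ≫ ψ) = toAbMap φ ≫ toAbMap ψ :=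
  (SheafOfModules.toSheaf X.ringCatSheaf).map_comp φ ψ

theorem toAbMap_id (M : X.Modules) : toAbMap (𝟙 M) = 𝟙 _ :=
  (SheafOfModules.toSheaf X.ringCatSheaf).map_id M

/-- cohomology of isomorphic modules, linearly over a base ring -/
def hhLinearEquivOfIso (A : Type u) [CommRing A] (X : Scheme.{u}) [X.Over (Spec (CommRingCat.of A))]
    {M N : X.Modules} (e : M ≅ N) (n : ℕ) : Coh.HH X M n ≃ₗ[A] Coh.HH X N n where
  toFun := Sheaf.H.map (toAbMap e.hom) n
  invFun := Sheaf.H.map (toAbMap e.inv) n
  left_inv x := by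
    rw [← Sheaf.H.map_comp_apply, ← toAbMap_comp, e.hom_inv_id, toAbMap_id,
      Sheaf.H.map_id_apply]
  right_inv x := by
    rw [← Sheaf.H.map_comp_apply, ← toAbMap_comp, e.inv_hom_id, toAbMap_id,
      Sheaf.H.map_id_apply]
  map_add' x y := map_add _ x y
  map_smul' a x := by
    change Sheaf.H.map _ n (Sheaf.H.map (Coh.smulAb M _) n x) =
      Sheaf.H.map (Coh.smulAb N _) n (Sheaf.H.map _ n x)
    rw [← Sheaf.H.map_comp_apply, ← Sheaf.H.map_comp_apply, smulAb_naturality]
    rfl

theorem isQuasicoherent_structureModule (X : Scheme.{u}) :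
    (Coh.structureModule X).IsQuasicoherent := by
  have e : SheafOfModules.free (R := X.ringCatSheaf) PUnit.{u + 1} ≅
      SheafOfModules.unit X.ringCatSheaf := coproductUniqueIso _
  exact (SheafOfModules.isQuasicoherent X.ringCatSheaf).prop_of_iso e inferInstance

/-- flat base change for the structure sheaf -/
theorem nonempty_hh_structureModule_baseChange (A B : Type u) [CommRing A] [CommRing B] [Algebra A B]
    [Module.Flat A B] (X X' : Scheme.{u}) [X.Over (Spec (CommRingCat.of A))]
    [X'.Over (Spec (CommRingCat.of B))] [CompactSpace X] [QuasiSeparatedSpace X] (g' : X' ⟶ X)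
    (h : IsPullback g' (X' ↘ Spec (CommRingCat.of B)) (X ↘ Spec (CommRingCat.of A))
      (Spec.map (CommRingCat.ofHom (algebraMap A B)))) (i : ℕ) :
    Nonempty (TensorProduct A B (Coh.HH X (Coh.structureModule X) i) ≃ₗ[B]
      Coh.HH X' (Coh.structureModule X') i) := by
  haveI := isQuasicoherent_structureModule X
  obtain ⟨e⟩ := flat_base_change_affine_base A B X X' g' h (Coh.structureModule X) i
  exact ⟨e.trans (hhLinearEquivOfIso B X' (Groth.Agent.H5.PullbackUnit.pullbackUnitIso g') i)⟩

theorem finrank_hh_structureModule_baseChange (k k' : Type u) [Field k] [Field k'] [Algebra k k']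
    (X X' : Scheme.{u}) [X.Over (Spec (CommRingCat.of k))]
    [X'.Over (Spec (CommRingCat.of k'))] [CompactSpace X] [QuasiSeparatedSpace X] (g' : X' ⟶ X)
    (h : IsPullback g' (X' ↘ Spec (CommRingCat.of k')) (X ↘ Spec (CommRingCat.of k))
      (Spec.map (CommRingCat.ofHom (algebraMap k k')))) (i : ℕ) :
    Module.finrank k' (Coh.HH X' (Coh.structureModule X') i) =
      Module.finrank k (Coh.HH X (Coh.structureModule X) i) := by
  obtain ⟨e⟩ := nonempty_hh_structureModule_baseChange k k' X X' g' h i
  rw [← e.finrank_eq, Module.finrank_baseChange]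

end

end Groth.Agent.H71.CohBC
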