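import Mathlib
import Groth.Agent.H71.CohBC.HHIso
import Groth.Agent.H71.QCoh.TensorQCohLite
import Groth.Agent.H18.ProjSpaceVanish
import Groth.Agent.H54.ClosedImmLinSys
import Groth.Prelude.Def_Curv2

/-!
helper71: vanishing of cohomology is insensitive to field extensions (corollary of flat base change).
-/

set_option autoImplicit false
universe u
open CategoryTheory Limits TopologicalSpace Opposite AlgebraicGeometry Abelian TensorProduct

namespace Groth.Agent.H71.CohBC

theorem subsingleton_hh_fieldExt_iff (k k' : Type u) [Field k] [Field k'] [Algebra k k']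
    (X X' : Scheme.{u}) [X.Over (Spec (CommRingCat.of k))]
    [X'.Over (Spec (CommRingCat.of k'))] [CompactSpace X] [QuasiSeparatedSpace X] (g' : X' ⟶ X)
    (h : IsPullback g' (X' ↘ Spec (CommRingCat.of k')) (X ↘ Spec (CommRingCat.of k))
      (Spec.map (CommRingCat.ofHom (algebraMap k k'))))
    (M : X.Modules) [M.IsQuasicoherent] (i : ℕ) :
    Subsingleton (Coh.HH X' ((Scheme.Modules.pullback g').obj M) i) ↔
      Subsingleton (Coh.HH X M i) := by
  obtain ⟨e⟩ := flat_base_change_affine_base k k' X X' g' h M i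
  rw [← e.toEquiv.subsingleton_congr]
  exact Module.FaithfullyFlat.subsingleton_tensorProduct_iff_right k k'

theorem subsingleton_hh_bc_iff (k k' : Type u) [Field k] [Field k'] [Algebra k k']
    (X : Scheme.{u}) [X.Over (Spec (CommRingCat.of k))] [CompactSpace X] [QuasiSeparatedSpace X]
    (M : X.Modules) [M.IsQuasicoherent] (i : ℕ) :
    Subsingleton (Coh.HH (Curv2.bc k X k') ((Scheme.Modules.pullback (Curv2.bcFst k X k')).obj M) i) ↔
      Subsingleton (Coh.HH X M i) := by
  letI : (Curv2.bc k X k').Over (Spec (CommRingCat.of k')) := ⟨Curv2.bcSnd k X k'⟩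
  exact subsingleton_hh_fieldExt_iff k k' X (Curv2.bc k X k') (Curv2.bcFst k X k')
    (IsPullback.of_hasPullback _ _) M i

theorem isMRegular_iff_bc (k : Type u) [Field k] (n : ℕ)
    (k' : Type u) [Field k'] [Algebra k k'] (F : (CohB1.ProjSpace n k).Modules) (hF : Coh.IsCoh F)
    (m : ℤ) :
    Curv2.IsMRegular k n F m ↔
      ∀ i : ℕ, 1 ≤ i → i ≤ n →
        Subsingleton (Coh.HH (Curv2.bc k (CohB1.ProjSpace n k) k')
          ((Scheme.Modules.pullback (Curv2.bcFst k (CohB1.ProjSpace n k) k')).obj
            (CohB1.tensorMod F (Twist.twistProjSpace n k (m - i)))) i) := by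
  haveI : IsProper ((CohB1.ProjSpace n k) ↘ Spec (CommRingCat.of k)) :=
    Groth.Agent.H54.LS.isProper_toSpec (k := k) (n := n)
  haveI : CompactSpace (CohB1.ProjSpace n k) :=
    QuasiCompact.compactSpace_of_compactSpace ((CohB1.ProjSpace n k) ↘ Spec (CommRingCat.of k))
  haveI : QuasiSeparatedSpace (CohB1.ProjSpace n k) :=
    quasiSeparatedSpace_of_quasiSeparated ((CohB1.ProjSpace n k) ↘ Spec (CommRingCat.of k))
  haveI : F.IsQuasicoherent := hF.1
  unfold Curv2.IsMRegular
  refine forall_congr' (fun i => forall_congr' (fun _ => forall_congr' (fun _ => ?_)))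
  haveI : (Twist.twistProjSpace n k (m - i)).IsQuasicoherent :=
    Groth.Agent.H18.PSL.isQCoh_twistProjSpace n k (m - i)
  exact (subsingleton_hh_bc_iff k k' (CohB1.ProjSpace n k)
    (CohB1.tensorMod F (Twist.twistProjSpace n k (m - i))) i).symm

end Groth.Agent.H71.CohBC
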