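import Mathlib
import Groth.Agent.H71.CohBC.FieldExt
import Groth.Prelude.Def_CurvBase

/-!
helper71: dimensions of cohomology groups and Euler characteristics are insensitive to field
extensions (corollary of flat base change).
-/

set_option autoImplicit false
universe u
open CategoryTheory Limits TopologicalSpace Opposite AlgebraicGeometry Abelian TensorProduct

namespace Groth.Agent.H71.CohBC

theorem finrank_hh_fieldExt (k k' : Type u) [Field k] [Field k'] [Algebra k k']
    (X X' : Scheme.{u}) [X.Over (Spec (CommRingCat.of k))]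
    [X'.Over (Spec (CommRingCat.of k'))] [CompactSpace X] [QuasiSeparatedSpace X] (g' : X' ⟶ X)
    (h : IsPullback g' (X' ↘ Spec (CommRingCat.of k')) (X ↘ Spec (CommRingCat.of k))
      (Spec.map (CommRingCat.ofHom (algebraMap k k'))))
    (M : X.Modules) [M.IsQuasicoherent] (i : ℕ) :
    Module.finrank k' (Coh.HH X' ((Scheme.Modules.pullback g').obj M) i) =
      Module.finrank k (Coh.HH X M i) := by
  obtain ⟨e⟩ := flat_base_change_affine_base k k' X X' g' h M i
  rw [← e.finrank_eq, Module.finrank_baseChange]

theorem euler_bc (k : Type u) [Field k] (X : Scheme.{u}) [X.Over (Spec (CommRingCat.of k))]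
    [CompactSpace X] [QuasiSeparatedSpace X]
    (k' : Type u) [Field k'] [Algebra k k'] (F : X.Modules) [F.IsQuasicoherent] :
    @Curv2.euler k' _ (Curv2.bc k X k') ⟨Curv2.bcSnd k X k'⟩
        ((Scheme.Modules.pullback (Curv2.bcFst k X k')).obj F) = Curv2.euler k X F := by
  letI : (Curv2.bc k X k').Over (Spec (CommRingCat.of k')) := ⟨Curv2.bcSnd k X k'⟩
  unfold Curv2.euler
  refine finsum_congr (fun i => ?_)
  rw [finrank_hh_fieldExt k k' X (Curv2.bc k X k') (Curv2.bcFst k X k')
    (IsPullback.of_hasPullback _ _) F i]

end Groth.Agent.H71.CohBC
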